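import Cfsg.Agent.H140.TC.Fam
import Cfsg.Agent.Lib.Zsigmondy

/-!
# S2464, the groups `PΩ⁺(2m, q)`, `m` even: two classes of elements of prime order `r ≥ 5` (helper311)

`x₀ = lev (diag (1, B))`, `B` irreducible of degree `m - 1` and order `r`, `r` a primitive prime divisor of
`q ^ (m - 1) - 1`: the case `s = r` of `H140.TC.two_plus`.

* `exists_pr` : the polynomial;
* `six_plus` : all `m ≥ 4` even, all `q` (`Ω⁺₈(2)`, `PΩ⁺₈(3)` included).
-/

set_option autoImplicit false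
set_option linter.unusedSectionVars false

namespace Cfsg.Agent.H311.TC

open Module QuadraticMap Matrix Polynomial Cfsg.Agent.LieClassical.OrthCore Cfsg.Agent.LieClassical.OrthTrans
  Cfsg.Agent.LieClassical.OrthFinite Cfsg.Agent.LieClassical.OrthForms Cfsg.Agent.H140.OreO Cfsg.Agent.H126.PwO
  Cfsg.Agent.H962.PP Cfsg.Agent.H141.SpinFacts Cfsg.Agent.H160.QSpin
open Cfsg.Agent.H434.Corn (MaxTS)
open Cfsg.Agent.H140.TC

/-- a prime `r ≥ 5` and an irreducible polynomial of odd degree `d ≥ 3`, norm `1`, whose roots have order `r` -/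
theorem exists_pr (F : Type*) [Field F] [Finite F] {d : ℕ} (hd : 3 ≤ d) (hodd : Odd d) :
    ∃ (r : ℕ) (f : F[X]), r.Prime ∧ 5 ≤ r ∧ RP d f ∧ (-1) ^ d * f.coeff 0 = 1 ∧ f ∣ X ^ r - 1 := by
  have hq : 2 ≤ Nat.card F := Finite.one_lt_card
  obtain ⟨r, hr, hiff, hdr, hrq⟩ := Cfsg.Agent.Lib.Zsigmondy.exists_primitive hq (n := d) (by omega) (by omega)
    (by rintro ⟨-, h6⟩; rw [h6] at hodd; exact absurd hodd (by decide))
  have hr2 : 2 < r := by
    have h1 := hr.two_le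
    have h2 := Nat.le_of_dvd (by omega) hdr
    omega
  have h5 : 5 ≤ r := by
    have h1 := Nat.le_of_dvd (by omega) hdr
    rcases Nat.lt_or_ge r 5 with h | h
    · have h3 : r = 4 := by omega
      rw [h3] at hr
      exact absurd hr (by norm_num)
    · exact h
  have hs : r ∣ Nat.card F ^ d - 1 := (hiff d).2 dvd_rfl
  obtain ⟨f, hf⟩ := exists_pol F (by omega) hs (fun k hk hkd h => by
    have := Nat.le_of_dvd hk ((hiff k).1 h)
    omega)
  refine ⟨r, f, hr, h5, ⟨hf.monic, hf.irr, hf.deg, hf.cop fun i hi h => ?_⟩, ?_, (hf.dvd r).2 dvd_rfl⟩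
  · -- `r ∣ q ^ i + 1`
    have h1 : r ∣ Nat.card F ^ (2 * i) - 1 := by
      have h4 : Nat.card F ^ (2 * i) - 1 = (Nat.card F ^ i + 1) * (Nat.card F ^ i - 1) := by
        rw [mul_comm 2 i, pow_mul]
        have := Nat.sq_sub_sq (Nat.card F ^ i) 1
        rw [one_pow] at this
        exact this
      rw [h4]
      exact h.mul_right _
    have h2 : d ∣ i := by
      have h3 := (hiff _).1 h1
      exact (Nat.Coprime.dvd_mul_left ((Nat.coprime_two_right).2 hodd)).1 h3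
    rcases Nat.eq_zero_or_pos i with h0 | h0
    · rw [h0, pow_zero] at h
      have := Nat.le_of_dvd (by norm_num) h
      omega
    · have := Nat.le_of_dvd h0 h2
      omega
  · have h1 : r ∣ (Nat.card F ^ d - 1) / (Nat.card F - 1) * 1 := by
      rw [mul_one]
      have h2 : Nat.card F - 1 ∣ Nat.card F ^ d - 1 := by
        simpa using Nat.sub_dvd_pow_sub_pow (Nat.card F) 1 d
      have h3 : (Nat.card F - 1) * ((Nat.card F ^ d - 1) / (Nat.card F - 1)) = Nat.card F ^ d - 1 :=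
        Nat.mul_div_cancel' h2
      rw [← h3] at hs
      rcases hr.dvd_mul.1 hs with h4 | h4
      · exfalso
        have h6 : r ∣ Nat.card F ^ 1 - 1 := by rwa [pow_one]
        have := Nat.le_of_dvd (by norm_num) ((hiff 1).1 h6)
        omega
      · exact h4
    have := (hf.coef 1).2 h1
    rwa [pow_one] at this

/-- two fixed classes of elements whose order divides `r` -/
def TwoR {F V : Type*} [Field F] [AddCommGroup V] [Module F V] (Q : QuadraticForm F V) : Prop :=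
  ∃ r : ℕ, r.Prime ∧ 5 ≤ r ∧ ∃ x₀ ∈ Om Q, ∃ y₀ ∈ Om Q, x₀ ^ r = 1 ∧ y₀ ^ r = 1 ∧ TwoOf Q x₀ y₀

theorem cop_of_pow {G : Type*} [Group G] {r : ℕ} (hr : r.Prime) (h5 : 5 ≤ r) {x : G} (hx : x ^ r = 1) :
    Nat.Coprime (orderOf x) 6 := by
  have h1 := orderOf_dvd_of_pow_eq_one hx
  refine Nat.Coprime.coprime_dvd_left h1 ?_
  rw [hr.coprime_iff_not_dvd]
  intro h
  have h2 : r ∣ 2 * 3 := h
  rcases hr.dvd_mul.1 h2 with h3 | h3
  · have := Nat.le_of_dvd (by norm_num) h3; omega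
  · have := Nat.le_of_dvd (by norm_num) h3; omega

theorem six_of_two {ι : Type} [Fintype ι] [DecidableEq ι] {F : Type*} [Field F] (Q : QuadraticForm F (ι → F))
    (h : TwoR Q) : ∃ x y : Cfsg.POmega F ⇑Q, Nat.Coprime (orderOf x) 6 ∧ Nat.Coprime (orderOf y) 6 ∧
      ∀ g : Cfsg.POmega F ⇑Q, g ≠ 1 → ∃ u v : Cfsg.POmega F ⇑Q, g = (u * x * u⁻¹) * (v * y * v⁻¹) := by
  obtain ⟨r, hr, h5, x₀, hx₀, y₀, hy₀, hxr, hyr, h⟩ := h
  have key : ∀ z₀ (hz₀ : z₀ ∈ Om Q), z₀ ^ r = 1 →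
      (QuotientGroup.mk ((omegaEquiv Q).symm ⟨z₀, hz₀⟩) : Cfsg.POmega F ⇑Q) ^ r = 1 := by
    intro z₀ hz₀ hz
    rw [← QuotientGroup.mk_pow, ← map_pow]
    have : (⟨z₀, hz₀⟩ : Om Q) ^ r = 1 := Subtype.ext hz
    rw [this, map_one]
    rfl
  refine ⟨QuotientGroup.mk ((omegaEquiv Q).symm ⟨x₀, hx₀⟩), QuotientGroup.mk ((omegaEquiv Q).symm ⟨y₀, hy₀⟩),
    cop_of_pow hr h5 (key _ _ hxr), cop_of_pow hr h5 (key _ _ hyr), fun g hg => ?_⟩
  obtain ⟨g, rfl⟩ := QuotientGroup.mk_surjective g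
  have hs : ∀ c : F, ∃ v, (omegaEquiv Q g : (ι → F) ≃ₗ[F] (ι → F)) v ≠ c • v := by
    by_contra hs
    push Not at hs
    obtain ⟨c, hc⟩ := hs
    apply hg
    have hcen : g ∈ Subgroup.center (Cfsg.Omega F ⇑Q) := by
      rw [Subgroup.mem_center_iff]
      intro k
      apply (omegaEquiv Q).injective
      rw [map_mul, map_mul]
      apply Subtype.ext
      apply LinearEquiv.ext
      intro v
      show (omegaEquiv Q k : (ι → F) ≃ₗ[F] (ι → F)) ((omegaEquiv Q g : (ι → F) ≃ₗ[F] (ι → F)) v) =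
        (omegaEquiv Q g : (ι → F) ≃ₗ[F] (ι → F)) ((omegaEquiv Q k : (ι → F) ≃ₗ[F] (ι → F)) v)
      rw [hc, hc, map_smul]
    exact (QuotientGroup.eq_one_iff g).2 hcen
  obtain ⟨u, hu, v, hv, e⟩ := h _ (omegaEquiv Q g).2 hs
  refine ⟨QuotientGroup.mk ((omegaEquiv Q).symm ⟨u, hu⟩), QuotientGroup.mk ((omegaEquiv Q).symm ⟨v, hv⟩), ?_⟩
  have e2 : g = ((omegaEquiv Q).symm ⟨u, hu⟩ * (omegaEquiv Q).symm ⟨x₀, hx₀⟩ * ((omegaEquiv Q).symm ⟨u, hu⟩)⁻¹) *
      ((omegaEquiv Q).symm ⟨v, hv⟩ * (omegaEquiv Q).symm ⟨y₀, hy₀⟩ * ((omegaEquiv Q).symm ⟨v, hv⟩)⁻¹) := by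
    apply (omegaEquiv Q).injective
    simp only [map_mul, map_inv, MulEquiv.apply_symm_apply]
    exact Subtype.ext e
  conv_lhs => rw [e2]
  rfl

variable {F V : Type*} [Field F] [AddCommGroup V] [Module F V] {Q : QuadraticForm F V}

section Fin

variable [Finite F] [FiniteDimensional F V]

theorem twoR_of_frames (hQ : Nondeg Q) {m : ℕ} (hm : 3 ≤ m) (hW : ∀ W, MaxTS Q W → finrank F W = m)
    (H : ∀ e e' : Fin m → V, Frame Q e e' → TwoR Q) : TwoR Q := by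
  by_cases h : ∃ g ∈ Om Q, ∀ c : F, ∃ v, g v ≠ c • v
  · obtain ⟨g, hg, hns⟩ := h
    obtain ⟨w, w', hf, -⟩ := nsCorner hQ hg hns hm hW
    exact H w w' hf
  · exact ⟨5, Nat.prime_five, le_rfl, 1, one_mem _, 1, one_mem _, one_pow _, one_pow _,
      fun g hg hns => absurd ⟨g, hg, hns⟩ h⟩

/-- **`Ω⁺`**, `m` even -/
theorem twoR_plus (hQ : Nondeg Q) {m : ℕ} (hm : 4 ≤ m) (hev : Even m) (hd : finrank F V = 2 * m)
    (hW : ∀ W, MaxTS Q W → finrank F W = m) : TwoR Q := by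
  obtain ⟨k, rfl⟩ : ∃ k, m = k + 2 := ⟨m - 2, by omega⟩
  refine twoR_of_frames hQ (by omega) hW fun e e' hf => ?_
  obtain ⟨r, f, hr, h5, hfr, hN, hfX⟩ := exists_pr F (show 3 ≤ k + 1 by omega)
    (by rw [Nat.even_add] at hev; rw [Nat.odd_add_one, Nat.not_odd_iff_even]; exact hev.2 even_two)
  obtain ⟨B, hBf, hB, hBdet⟩ := exists_mat (by omega) hfr
  rw [hN] at hBdet
  have hfin := hf.finrank_perp
  have hfin0 : finrank F (perp Q e e') = 0 := by omega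
  have : Subsingleton (perp Q e e') := Module.finrank_zero_iff.1 hfin0
  have hu : ∀ (x : perp Q e e' ≃ₗ[F] perp Q e e') (p : F[X]), Un (x : Module.End F (perp Q e e')) p := fun x p =>
    isUnit_of_subsingleton _
  have hdb : (blk (1 : F) B).det = 1 := by rw [blk_det, hBdet, one_mul]
  obtain ⟨X₀, hX₀⟩ : ∃ X₀ : GL (Fin (k + 2)) F, (X₀ : Matrix (Fin (k + 2)) (Fin (k + 2)) F) = blk 1 B :=
    exists_gl (by rw [hdb]; exact one_ne_zero)
  have hc : ∀ x : perp Q e e' ≃ₗ[F] perp Q e e', CopP (k + 2) ((X - C 1) * B.charpoly) x := by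
    intro x X hX
    rw [hBf] at hX
    exact cop_of_eps (one_mul 1) hX (hfr.eval_ne (by omega) 1) hfr.cop (hu _ _) (hu _ _) (hu _ _)
  have hOm : lev X₀ (1 : perp Q e e' ≃ₗ[F] perp Q e e') ∈ Om (MQ (k + 2) (res Q e e')) :=
    lev_det_one_mem (good_model hQ (by omega) hf) (by rw [hX₀, hdb])
  -- the order
  have hBr : B ^ r = 1 := by
    have h1 : aeval B (X ^ r - 1 : F[X]) = 0 := by
      obtain ⟨g, hg⟩ := hfX
      rw [hg, map_mul, ← hBf, aeval_self_charpoly, zero_mul]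
    rw [map_sub, map_pow, aeval_X, map_one, sub_eq_zero] at h1
    exact h1
  have hXr : X₀ ^ r = 1 := by
    apply Units.ext
    rw [Units.val_pow_eq_pow_val, hX₀, blk_pow, hBr, one_pow, blk_one]
    rfl
  have hxr : (autE hf.toModel).symm (lev X₀ (1 : perp Q e e' ≃ₗ[F] perp Q e e')) ^ r = 1 := by
    rw [← map_pow, lev_pow, hXr, one_pow, lev_one, map_one]
  have hyr : (autE hf.toModel).symm (lev X₀ (1 : perp Q e e' ≃ₗ[F] perp Q e e')⁻¹) ^ r = 1 := by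
    rw [inv_one]; exact hxr
  have he : ∀ v, MQ (k + 2) (res Q e e') (hf.toModel v) = Q v := hf.MQ_toModel
  refine ⟨r, hr, h5, _, ?_, _, ?_, hxr, hyr, twoOf hQ (by omega) hW hf (one_mul 1) (one_mul 1) hB hB ?_ ?_ ?_
    (O _).one_mem (hc _) (hc _) hX₀ hX₀⟩
  · rw [← autE_mem_Om he, MulEquiv.apply_symm_apply]; exact hOm
  · rw [← autE_mem_Om he, MulEquiv.apply_symm_apply, inv_one]; exact hOm
  · rw [hBf]; exact hfr.eval_ne (by omega) 1
  · rw [hBf]; exact hfr.eval_ne (by omega) 1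
  · rw [hBdet]; ring

end Fin

/-- **S2464 for `PΩ⁺(2m, q)`, `m ≥ 4` even.** -/
theorem six_plus {F : Type*} [Field F] [Fintype F] {m : ℕ} (hm : 4 ≤ m) (hev : Even m) :
    ∃ x y : Cfsg.POmega F (Cfsg.quadFormPlus m F), Nat.Coprime (orderOf x) 6 ∧ Nat.Coprime (orderOf y) 6 ∧
      ∀ g : Cfsg.POmega F (Cfsg.quadFormPlus m F), g ≠ 1 →
        ∃ u v : Cfsg.POmega F (Cfsg.quadFormPlus m F), g = (u * x * u⁻¹) * (v * y * v⁻¹) := by
  have h4 : TwoR (plusForm m F) := twoR_plus (nondeg_plusForm m F) hm hev (by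
    rw [Module.finrank_fintype_fun_eq_card]; simp; ring) (H295.War.witt_plus m)
  have h5 := six_of_two (plusForm m F) h4
  rw [coe_plusForm] at h5
  exact h5

end Cfsg.Agent.H311.TC
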